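import Groth.Agent.L20.ResDescent
import Groth.Agent.L20.ResAmple
import Groth.Agent.L17.Approx.Extend
import Groth.Agent.L17.Duality
import Groth.Agent.L00.TensorRestrict
import Groth.Agent.L00.TensorQCoh
import Groth.Agent.L29.DCoh.TensorPerfect
import Groth.Agent.L29.DCoh.PCQCoh
import Groth.Agent.L29.LocFree
import Groth.Agent.L16.AffineBC.Pullback

/-! Surjections from box products of finite locally free modules. -/

set_option autoImplicit false
set_option linter.style.haveILetI false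
set_option backward.isDefEq.respectTransparency false
set_option backward.isDefEq.respectTransparency.types false

universe u

open CategoryTheory CategoryTheory.Limits AlgebraicGeometry TopologicalSpace Opposite

noncomputable section

namespace Groth.L07.BoxSurj

open Groth.L00.Tensor Groth.L17.ChangeRings

variable {P : Scheme.{u}}

/-- Restriction of sections. -/
abbrev res (M : P.Modules) {U V : P.Opens} (h : V ≤ U) : Γ(M, U) →+ Γ(M, V) :=
  (M.presheaf.map (homOfLE h).op).hom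

theorem res_app {M N : P.Modules} (f : M ⟶ N) {U V : P.Opens} (h : V ≤ U) (m : Γ(M, U)) :
    f.app V (res M h m) = res N h (f.app U m) :=
  (congr($(f.mapPresheaf.naturality (homOfLE h).op) m))

/-- A map out of the structure sheaf killing the unit over `W` vanishes on `W`. -/
theorem app_eq_zero_of_one {M : P.Modules} (h : Coh.structureModule P ⟶ M) {W : P.Opens}
    (h1 : h.app W (1 : Γ(P, W)) = 0) {O : P.Opens} (hO : O ≤ W) (r : Γ(Coh.structureModule P, O)) :
    h.app O r = 0 := by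
  have e1 : h.app O (1 : Γ(P, O)) = 0 := by
    have := res_app h hO (1 : Γ(P, W))
    rw [h1, map_zero] at this
    refine Eq.trans (congrArg (h.app O) ?_) this
    exact (map_one (P.presheaf.map (homOfLE hO).op).hom).symm
  have hr : r = (show Γ(P, O) from r) • (show Γ(Coh.structureModule P, O) from (1 : Γ(P, O))) :=
    (mul_one (show Γ(P, O) from r)).symm
  rw [hr, Scheme.Modules.Hom.app_smul]
  exact (congrArg _ e1).trans (smul_zero _)

/-- A map vanishes on `W` if its restriction does. -/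
theorem app_eq_zero_of_restrict {M N : P.Modules} (f : M ⟶ N) {W : P.Opens}
    (h : (Scheme.Modules.restrictFunctor W.ι).map f = 0) {O : P.Opens} (hO : O ≤ W) (m : Γ(M, O)) :
    f.app O m = 0 := by
  have e : W.ι ''ᵁ (W.ι ⁻¹ᵁ O) = O := by
    rw [W.ι.image_preimage_eq_opensRange_inf, Scheme.Opens.opensRange_ι]
    exact inf_eq_right.2 hO
  have h' : ∀ m', f.app (W.ι ''ᵁ (W.ι ⁻¹ᵁ O)) m' = 0 := fun m' =>
    congr($(congrArg (fun k => Scheme.Modules.Hom.app k (W.ι ⁻¹ᵁ O)) h) m')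
  rw [e] at h'
  exact h' m

theorem restrict_eq_zero {M N : P.Modules} (f : M ⟶ N) {W : P.Opens}
    (h : ∀ O, O ≤ W → ∀ m : Γ(M, O), f.app O m = 0) :
    (Scheme.Modules.restrictFunctor W.ι).map f = 0 := by
  refine Scheme.Modules.hom_ext _ _ fun O => ConcreteCategory.hom_ext _ _ fun m => ?_
  exact h _ (by rintro _ ⟨x, -, rfl⟩; exact x.2) m

/-- Zero tensor anything is zero. -/
theorem tensorMap_zero_left {X : Scheme.{u}} {A B C D : X.Modules} (g : C ⟶ D) :
    tensorMap (0 : A ⟶ B) g = 0 := by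
  have h0 : (tensorRightF C).map (0 : A ⟶ B) = 0 := Functor.map_zero _ _ _
  have := tensorMap_comp (0 : A ⟶ B) (𝟙 B) (𝟙 C) g
  rw [Category.comp_id, Category.id_comp] at this
  rw [this, show tensorMap (0 : A ⟶ B) (𝟙 C) = 0 from h0, zero_comp]

theorem isIso_restrict_tensorMap {A B : P.Modules} (a : A ⟶ B) (C : P.Modules) (W : P.Opens)
    [IsIso ((Scheme.Modules.restrictFunctor W.ι).map a)] :
    IsIso ((Scheme.Modules.restrictFunctor W.ι).map (tensorMap a (𝟙 C))) := by
  have h := Groth.L29.DC.tensorRestrict_natural W.ι a (𝟙 C)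
  rw [← Iso.inv_comp_eq] at h
  rw [← h]
  let ea := asIso ((Scheme.Modules.restrictFunctor W.ι).map a)
  have : tensorMap ((Scheme.Modules.restrictFunctor W.ι).map a)
      ((Scheme.Modules.restrictFunctor W.ι).map (𝟙 C)) = (tensorIso ea (Iso.refl _)).hom := by
    rw [CategoryTheory.Functor.map_id]; rfl
  rw [this]
  exact IsIso.comp_isIso' inferInstance (IsIso.comp_isIso' inferInstance inferInstance)

theorem restrict_tensorMap_eq_zero {A B : P.Modules} (a : A ⟶ B) (C : P.Modules) (W : P.Opens)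
    (h : (Scheme.Modules.restrictFunctor W.ι).map a = 0) :
    (Scheme.Modules.restrictFunctor W.ι).map (tensorMap a (𝟙 C)) = 0 := by
  have hn := Groth.L29.DC.tensorRestrict_natural W.ι a (𝟙 C)
  rw [h, tensorMap_zero_left, zero_comp] at hn
  rw [← cancel_epi (tensorRestrict W.ι A C).hom, comp_zero]
  exact hn.symm

/-- Sections over finitely many affine opens lift to a finite locally free module. -/
theorem exists_finLocFree_lift {X : Scheme.{u}} [CompactSpace X] [QuasiSeparatedSpace X]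
    (hX : PerfAux.HasResolutionProperty X) (M : X.Modules) [Coh.IsQCoh M] {κ : Type*} (U : κ → X.Opens)
    (hU : ∀ a, IsAffineOpen (U a)) (I : κ → Type u) [∀ a, Finite (I a)] (t : ∀ a, I a → Γ(M, U a))
    (S : Finset κ) :
    ∃ (E : X.Modules) (φ : E ⟶ M), FlatMod.IsFinLocFree E ∧
      ∀ a ∈ S, ∀ q, t a q ∈ Set.range (φ.app (U a)) := by
  obtain ⟨F, i, -, hF, hti⟩ := Groth.L17.Approx.exists_submodule_finset M U (fun a => (hU a).isCompact) I t S
  obtain ⟨E, π, hE, hπ⟩ := hX F hF.1 hF.2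
  haveI := hπ
  haveI : Coh.IsQCoh F := hF.1
  haveI : Coh.IsQCoh E := Groth.L29.DC.PCQCoh.isQCoh_of_isFinLocFree hE
  refine ⟨E, π ≫ i, hE, fun a ha q => ?_⟩
  obtain ⟨z, hz⟩ := hti a ha q
  obtain ⟨e, he⟩ := Groth.L16.AffineBC.surjective_app_of_epi π (hU a) z
  exact ⟨e, (congrArg (i.app (U a)) he).trans hz⟩

/-- The unit of restriction to an open, on sections. -/
theorem unit_app_eq (F : P.Modules) (W : P.Opens) {O O' : P.Opens} (h : O ≤ O')
    (h' : W.ι ''ᵁ (W.ι ⁻¹ᵁ O') ≤ O) (t : Γ(F, O)) :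
    ((Scheme.Modules.restrictAdjunction W.ι).unit.app F).app O t =
      res ((Scheme.Modules.pushforward W.ι).obj ((Scheme.Modules.restrictFunctor W.ι).obj F)) h
        (res F h' t) := by
  have h'' : W.ι ''ᵁ (W.ι ⁻¹ᵁ O) ≤ W.ι ''ᵁ (W.ι ⁻¹ᵁ O') := W.ι.image_mono fun x hx => h hx
  have e : (homOfLE (W.ι.image_preimage_le O)).op = (homOfLE h').op ≫ (homOfLE h'').op :=
    Subsingleton.elim _ _
  rw [Scheme.Modules.restrictAdjunction_unit_app_app, e, Functor.map_comp]
  rfl

variable {X Y : Scheme.{u}} (p1 : P ⟶ X) (p2 : P ⟶ Y)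

/-- The box product. -/
abbrev box (E : X.Modules) (G : Y.Modules) : P.Modules :=
  CohB1.tensorMod ((Scheme.Modules.pullback p1).obj E) ((Scheme.Modules.pullback p2).obj G)

variable [QuasiCompact p1] [QuasiSeparated p1] [QuasiCompact p2] [QuasiSeparated p2]
  [CompactSpace X] [QuasiSeparatedSpace X] [CompactSpace Y] [QuasiSeparatedSpace Y]
  [CompactSpace P] [QuasiSeparatedSpace P]

set_option maxHeartbeats 1600000 in
/-- Over one affine open of the first factor, a quasi-coherent module is covered by one box product. -/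
theorem exists_box_over (hX : PerfAux.HasResolutionProperty X) (hY : PerfAux.HasResolutionProperty Y)
    (F : P.Modules) [Coh.IsQCoh F] {U : X.Opens} (hU : IsAffineOpen U) {κ : Type*} (V : κ → Y.Opens)
    (hV : ∀ a, IsAffineOpen (V a)) (I : κ → Type u) [∀ a, Finite (I a)]
    (t : ∀ a, I a → Γ(F, p1 ⁻¹ᵁ U ⊓ p2 ⁻¹ᵁ V a)) (S : Finset κ) :
    ∃ (E : X.Modules) (G : Y.Modules) (ψ : box p1 p2 E G ⟶ F), FlatMod.IsFinLocFree E ∧
      FlatMod.IsFinLocFree G ∧ ∀ (C : P.Modules) (c : F ⟶ C), ψ ≫ c = 0 →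
        ∀ a ∈ S, ∀ q, c.app (p1 ⁻¹ᵁ U ⊓ p2 ⁻¹ᵁ V a) (t a q) = 0 := by
  let W : P.Opens := p1 ⁻¹ᵁ U
  haveI := Groth.L17.Approx.quasiCompact_ι W (p1.isCompact_preimage hU.isCompact)
  let R := Scheme.Modules.restrictFunctor W.ι
  let PW := Scheme.Modules.pushforward W.ι
  let adj := Scheme.Modules.restrictAdjunction W.ι
  let PF := PW.obj (R.obj F)
  haveI : Coh.IsQCoh (R.obj F) := Scheme.Modules.isQuasicoherent_restrictFunctor _ F
  haveI : Coh.IsQCoh PF := Groth.L16.QcqsPush.isQCoh_push _ W.ι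
  haveI hηiso : ∀ M : P.Modules, IsIso (R.map (adj.unit.app M)) := fun M => by
    have h := adj.left_triangle_components M
    haveI : IsIso (R.map (adj.unit.app M) ≫ adj.counit.app (R.obj M)) := by rw [h]; infer_instance
    exact IsIso.of_isIso_comp_right (R.map (adj.unit.app M)) (adj.counit.app (R.obj M))
  let η : F ⟶ PF := adj.unit.app F
  haveI : IsIso (R.map η) := hηiso F
  -- the step on the second factor
  let M2 := (Scheme.Modules.pushforward p2).obj PF
  haveI : Coh.IsQCoh M2 := Groth.L16.QcqsPush.isQCoh_push _ p2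
  have hle : ∀ a, W.ι ''ᵁ (W.ι ⁻¹ᵁ (p2 ⁻¹ᵁ V a)) ≤ p1 ⁻¹ᵁ U ⊓ p2 ⁻¹ᵁ V a := fun a => by
    rw [W.ι.image_preimage_eq_opensRange_inf, Scheme.Opens.opensRange_ι]
  let s' : ∀ a, I a → Γ(M2, V a) := fun a q => res F (hle a) (t a q)
  obtain ⟨G, g, hG, hg⟩ := exists_finLocFree_lift hY M2 V hV I s' S
  let N := (Scheme.Modules.pullback p2).obj G
  have hN : FlatMod.IsFinLocFree N := Groth.L29.LocFree.pullback p2 hG
  haveI : ModSite.HasSheafHom (O := P.sheaf) N := Groth.L17.Duality.hasSheafHom N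
  let adj2 := Scheme.Modules.pullbackPushforwardAdjunction p2
  let β : N ⟶ PF := (adj2.homEquiv G PF).symm g
  let A : tensorRightF N ⊣ tensorRightF (Groth.L17.Duality.dual N) :=
    ((ModSite.sheafHomAdj (O := P.sheaf) N).ofNatIsoLeft (tensorRightBiIso N).symm).ofNatIsoRight
      (Groth.L17.Duality.tensorDualIso N hN).symm
  let N' := Groth.L17.Duality.dual N
  haveI : Coh.IsQCoh N' :=
    Groth.L29.DC.PCQCoh.isQCoh_of_isFinLocFree (Groth.L20.ResDescent.isFinLocFree_dual N hN)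
  let z : CohB1.tensorMod (Coh.structureModule P) N ⟶ PF := (tensorUnitLeft N).hom ≫ β
  let βh : Coh.structureModule P ⟶ CohB1.tensorMod PF N' := A.homEquiv _ _ z
  haveI := isIso_restrict_tensorMap η N' W
  obtain ⟨σ, hσ⟩ := (Groth.L17.Approx.bijective_app_of_isIso_restrict (tensorMap η (𝟙 N')) (V := W)
    (O := W) le_rfl).2 (βh.app W (1 : Γ(P, W)))
  -- the step on the first factor
  haveI : Coh.IsQCoh (CohB1.tensorMod F N') := Groth.L00.Tensor.isQCoh_tensorMod F N'
  let M1 := (Scheme.Modules.pushforward p1).obj (CohB1.tensorMod F N')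
  haveI : Coh.IsQCoh M1 := Groth.L16.QcqsPush.isQCoh_push _ p1
  obtain ⟨E, φ, hE, hφ⟩ := exists_finLocFree_lift hX M1 (fun _ : PUnit.{u + 1} => U) (fun _ => hU)
    (fun _ => PUnit.{u + 1}) (fun _ _ => (σ : Γ(M1, U))) {PUnit.unit}
  obtain ⟨e, he⟩ := hφ PUnit.unit (Finset.mem_singleton_self _) PUnit.unit
  let adj1 := Scheme.Modules.pullbackPushforwardAdjunction p1
  let φ1 : (Scheme.Modules.pullback p1).obj E ⟶ CohB1.tensorMod F N' := (adj1.homEquiv _ _).symm φ
  refine ⟨E, G, (A.homEquiv _ _).symm φ1, hE, hG, fun C c hc a ha q => ?_⟩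
  let c' : PF ⟶ PW.obj (R.obj C) := PW.map (R.map c)
  let ηC : C ⟶ PW.obj (R.obj C) := adj.unit.app C
  haveI : IsIso (R.map ηC) := hηiso C
  have hnat : η ≫ c' = c ≫ ηC := (adj.unit.naturality c).symm
  have h1 : φ1 ≫ tensorMap c (𝟙 N') = 0 := by
    have h2 := A.homEquiv_naturality_right ((A.homEquiv _ _).symm φ1) c
    rw [hc, Equiv.apply_symm_apply] at h2
    refine h2.symm.trans ?_
    rw [Adjunction.homEquiv_unit, Functor.map_zero, comp_zero]
  have h2 : (tensorMap c (𝟙 N')).app W σ = 0 := by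
    have h3 : φ ≫ (Scheme.Modules.pushforward p1).map (tensorMap c (𝟙 N')) = 0 := by
      have h4 := adj1.homEquiv_naturality_right φ1 (tensorMap c (𝟙 N'))
      rw [h1, show adj1.homEquiv _ _ φ1 = φ from Equiv.apply_symm_apply _ _] at h4
      refine h4.symm.trans ?_
      rw [Adjunction.homEquiv_unit, Functor.map_zero, comp_zero]
    have h5 := congr($(congrArg (fun k => Scheme.Modules.Hom.app k U) h3) e)
    refine Eq.trans ?_ h5
    exact (congrArg ((tensorMap c (𝟙 N')).app W) he).symm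
  have h3 : (βh ≫ tensorMap c' (𝟙 N')).app W (1 : Γ(P, W)) = 0 := by
    show (tensorMap c' (𝟙 N')).app W (βh.app W _) = 0
    rw [← hσ]
    have h4 : tensorMap η (𝟙 N') ≫ tensorMap c' (𝟙 N') = tensorMap c (𝟙 N') ≫ tensorMap ηC (𝟙 N') := by
      rw [← tensorMap_comp, ← tensorMap_comp, hnat]
    refine (congr($(congrArg (fun k => Scheme.Modules.Hom.app k W) h4) σ)).trans ?_
    show (tensorMap ηC (𝟙 N')).app W ((tensorMap c (𝟙 N')).app W σ) = 0
    rw [h2, map_zero]
  have h4 : R.map (z ≫ c') = 0 := by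
    have h5 : z ≫ c' = tensorMap (βh ≫ tensorMap c' (𝟙 N')) (𝟙 N) ≫ A.counit.app _ := by
      have h6 := A.homEquiv_counit (g := βh ≫ tensorMap c' (𝟙 N'))
      refine Eq.trans ?_ h6
      show z ≫ c' = (A.homEquiv _ _).symm (βh ≫ (tensorRightF N').map c')
      rw [← A.homEquiv_naturality_right, Equiv.symm_apply_apply]
    rw [h5, Functor.map_comp, restrict_tensorMap_eq_zero _ _ _
      (restrict_eq_zero _ fun O hO m => app_eq_zero_of_one _ h3 hO m), zero_comp]
  have h5 : R.map (β ≫ c') = 0 := by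
    have : β ≫ c' = (tensorUnitLeft N).inv ≫ (z ≫ c') := by simp [z]
    rw [this, Functor.map_comp, h4, comp_zero]
  obtain ⟨b, hb⟩ := hg a ha q
  let b' : Γ(N, p2 ⁻¹ᵁ V a) := (adj2.unit.app G).app (V a) b
  have hgb : β.app (p2 ⁻¹ᵁ V a) b' = s' a q := by
    refine Eq.trans ?_ hb
    have h6 : adj2.unit.app G ≫ (Scheme.Modules.pushforward p2).map β = g :=
      (adj2.homEquiv_unit G PF β).symm.trans (Equiv.apply_symm_apply _ _)
    exact congr($(congrArg (fun k => Scheme.Modules.Hom.app k (V a)) h6) b)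
  let O : P.Opens := p1 ⁻¹ᵁ U ⊓ p2 ⁻¹ᵁ V a
  have hO : O ≤ p2 ⁻¹ᵁ V a := inf_le_right
  have hηt : η.app O (t a q) = res PF hO (s' a q) := unit_app_eq F W hO (hle a) (t a q)
  refine (Groth.L17.Approx.bijective_app_of_isIso_restrict ηC (V := W) (O := O) inf_le_left).1 ?_
  rw [map_zero]
  refine Eq.trans (congr($(congrArg (fun k => Scheme.Modules.Hom.app k O) hnat) (t a q))).symm ?_
  show c'.app O (η.app O (t a q)) = 0
  rw [hηt, ← hgb, ← res_app]
  exact app_eq_zero_of_restrict (β ≫ c') h5 inf_le_left _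

omit [CompactSpace P] [QuasiSeparatedSpace P] [QuasiCompact p1] [QuasiSeparated p1] [QuasiCompact p2]
  [QuasiSeparated p2] [CompactSpace X] [QuasiSeparatedSpace X] [CompactSpace Y] [QuasiSeparatedSpace Y] in
/-- Products of affine opens over an affine base are affine. -/
theorem isAffineOpen_inter {S : Scheme.{u}} [IsAffine S] {sX : X ⟶ S} {sY : Y ⟶ S}
    (sq : IsPullback p1 p2 sX sY) {U : X.Opens} (hU : IsAffineOpen U) {V : Y.Opens} (hV : IsAffineOpen V) :
    IsAffineOpen (p1 ⁻¹ᵁ U ⊓ p2 ⁻¹ᵁ V) := by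
  haveI : IsAffine U.toScheme := hU
  haveI : IsAffineHom (U.ι ≫ sX) := inferInstance
  have sq' := ((isPullback_morphismRestrict p1 U).paste_vert sq)
  haveI : IsAffineHom ((p1 ⁻¹ᵁ U).ι ≫ p2) :=
    MorphismProperty.of_isPullback (P := @IsAffineHom) sq' inferInstance
  have h := (hV.preimage ((p1 ⁻¹ᵁ U).ι ≫ p2)).image_of_isOpenImmersion (p1 ⁻¹ᵁ U).ι
  rwa [Scheme.Hom.comp_preimage, Scheme.Hom.image_preimage_eq_opensRange_inf, Scheme.Opens.opensRange_ι] at h

/-- A quasi-coherent module of finite type on a product is a quotient of a box product. -/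
theorem exists_box_epi {S : Scheme.{u}} [IsAffine S] {sX : X ⟶ S} {sY : Y ⟶ S} (sq : IsPullback p1 p2 sX sY)
    (hX : PerfAux.HasResolutionProperty X) (hY : PerfAux.HasResolutionProperty Y)
    (F : P.Modules) (hF : Coh.IsQCoh F) (hF' : CohB1.IsFT F) :
    ∃ (E : X.Modules) (G : Y.Modules), FlatMod.IsFinLocFree E ∧ FlatMod.IsFinLocFree G ∧
      ∃ π : box p1 p2 E G ⟶ F, Epi π := by
  classical
  haveI := hF
  obtain ⟨S₁, hS₁⟩ := isCompact_univ.elim_finite_subcover (fun U : X.affineOpens => ((U : X.Opens) : Set X))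
    (fun U => (U : X.Opens).2) (fun x _ => by
      obtain ⟨_, ⟨U, hU, rfl⟩, hx, -⟩ := X.isBasis_affineOpens.exists_subset_of_mem_open (Set.mem_univ x) isOpen_univ
      exact Set.mem_iUnion.2 ⟨⟨U, hU⟩, hx⟩)
  obtain ⟨S₂, hS₂⟩ := isCompact_univ.elim_finite_subcover (fun U : Y.affineOpens => ((U : Y.Opens) : Set Y))
    (fun U => (U : Y.Opens).2) (fun x _ => by
      obtain ⟨_, ⟨U, hU, rfl⟩, hx, -⟩ := Y.isBasis_affineOpens.exists_subset_of_mem_open (Set.mem_univ x) isOpen_univ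
      exact Set.mem_iUnion.2 ⟨⟨U, hU⟩, hx⟩)
  have hfin : ∀ (U : X.affineOpens) (V : Y.affineOpens),
      Module.Finite Γ(P, p1 ⁻¹ᵁ U.1 ⊓ p2 ⁻¹ᵁ V.1) Γ(F, p1 ⁻¹ᵁ U.1 ⊓ p2 ⁻¹ᵁ V.1) := fun U V =>
    Groth.L20.ModStalk.finite_sections F ⟨hF, hF'⟩ (isAffineOpen_inter p1 p2 sq U.2 V.2)
  choose n t ht using fun U V => (hfin U V).exists_fin
  choose E G ψ hE hG hψ using fun U : S₁ => exists_box_over p1 p2 hX hY F U.1.2 (fun V : Y.affineOpens => V.1)
    (fun V => V.2) (fun V => ULift.{u} (Fin (n U.1 V))) (fun V q => t U.1 V q.down) S₂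
  obtain ⟨m, ⟨eq⟩⟩ := Finite.exists_equiv_fin S₁
  let E' := fun k : Fin m => E (eq.symm k)
  let G' := fun k : Fin m => G (eq.symm k)
  let pE : ∀ k, ∐ E' ⟶ E' k := fun k => Sigma.desc fun l => if h : l = k then eqToHom (by rw [h]) else 0
  let pG : ∀ k, ∐ G' ⟶ G' k := fun k => Sigma.desc fun l => if h : l = k then eqToHom (by rw [h]) else 0
  let P1 := Scheme.Modules.pullback p1
  let P2 := Scheme.Modules.pullback p2
  suffices hmain : ∀ (C : P.Modules) (c : F ⟶ C),
      (∑ k, tensorMap (P1.map (pE k)) (P2.map (pG k)) ≫ ψ (eq.symm k)) ≫ c = 0 → c = 0 from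
    ⟨∐ E', ∐ G', Groth.L29.DC.isFinLocFree_coprod_fin m _ (fun k => hE _),
      Groth.L29.DC.isFinLocFree_coprod_fin m _ (fun k => hG _),
      ∑ k, tensorMap (P1.map (pE k)) (P2.map (pG k)) ≫ ψ (eq.symm k),
      Abelian.epi_of_cokernel_π_eq_zero _ (hmain _ _ (cokernel.condition _))⟩
  intro C c hcond
  have hk : ∀ k, ψ (eq.symm k) ≫ c = 0 := fun l => by
    have h := congrArg (tensorMap (P1.map (Sigma.ι E' l)) (P2.map (Sigma.ι G' l)) ≫ ·) hcond
    simp only [comp_zero, Preadditive.sum_comp, Preadditive.comp_sum] at h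
    rw [Finset.sum_eq_single l] at h
    · refine Eq.trans ?_ h
      rw [Category.assoc, ← Category.assoc (tensorMap _ _) (tensorMap _ _), ← tensorMap_comp, ← Functor.map_comp,
        ← Functor.map_comp, Sigma.ι_desc, Sigma.ι_desc, dif_pos rfl, eqToHom_refl, dif_pos rfl, eqToHom_refl,
        CategoryTheory.Functor.map_id, CategoryTheory.Functor.map_id, tensorMap_id, Category.id_comp]
    · intro k _ hkl
      rw [Category.assoc, ← Category.assoc (tensorMap _ _) (tensorMap _ _), ← tensorMap_comp, ← Functor.map_comp,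
        ← Functor.map_comp, Sigma.ι_desc, Sigma.ι_desc, dif_neg (Ne.symm hkl), Functor.map_zero,
        tensorMap_zero_left, zero_comp]
    · exact fun h => absurd (Finset.mem_univ l) h
  refine Groth.L20.ResDescent.eq_zero_of_affine c fun z => ?_
  obtain ⟨U, hU, hzU⟩ := Set.mem_iUnion₂.1 (hS₁ (Set.mem_univ (p1 z)))
  obtain ⟨V, hVm, hzV⟩ := Set.mem_iUnion₂.1 (hS₂ (Set.mem_univ (p2 z)))
  refine ⟨p1 ⁻¹ᵁ U.1 ⊓ p2 ⁻¹ᵁ V.1, isAffineOpen_inter p1 p2 sq U.2 V.2, ⟨hzU, hzV⟩, fun s => ?_⟩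
  have hgen : ∀ q, c.app _ (t U V q) = 0 := fun q =>
    hψ ⟨U, hU⟩ _ c (by have := hk (eq ⟨U, hU⟩); rwa [Equiv.symm_apply_apply] at this) V hVm ⟨q⟩
  induction (show s ∈ Submodule.span Γ(P, p1 ⁻¹ᵁ U.1 ⊓ p2 ⁻¹ᵁ V.1) (Set.range (t U V)) by
    rw [ht]; trivial) using Submodule.span_induction with
  | mem z hz => obtain ⟨q, rfl⟩ := hz; exact hgen q
  | zero => exact map_zero _
  | add a b _ _ ha hb => rw [map_add, ha, hb, add_zero]
  | smul a z _ hz => rw [Scheme.Modules.Hom.app_smul, hz, smul_zero]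

end Groth.L07.BoxSurj
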