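import Groth.Agent.L07.BoxSurj.Basic
import Groth.Agent.L07.SyntKoszul
import Groth.Agent.L07.BvdB.PointSelf
import Groth.Agent.L10.RelPC.PushCoh
import Groth.Agent.L29.DCoh.Cpt.Range
import Groth.Agent.L29.DCoh.QCohOps
import Groth.Agent.L16.CohKernel
import Groth.Agent.L16.CohClosedPush
import Groth.Agent.L16.NegPow.Gen
import Groth.Agent.L16.Rees.RelVanish
import Groth.Agent.L20.ResAmple
import Mathlib.CategoryTheory.Triangulated.Generators

/-! Perfect coherent modules on a product lie in the envelope of one box product. -/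

set_option autoImplicit false
set_option linter.style.haveILetI false
set_option backward.defeqAttrib.useBackward true
set_option backward.isDefEq.respectTransparency false
set_option backward.isDefEq.respectTransparency.types false

universe u

open CategoryTheory CategoryTheory.Limits CategoryTheory.Pretriangulated AlgebraicGeometry DerivedCategory
attribute [local instance] HasDerivedCategory.standard

noncomputable section

namespace Groth.L07.BoxSurj

open Groth.L00.Tensor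

variable {X Y P : Scheme.{u}} (p1 : P ⟶ X) (p2 : P ⟶ Y)

/-- The envelope of one box product. -/
abbrev env (E : X.Modules) (G : Y.Modules) : ObjectProperty (DCoh.D P) :=
  (ObjectProperty.ofObj (fun _ : PUnit.{u + 1} => DCoh.inD P (box p1 p2 E G))).triangEnvelope

theorem env_self (E : X.Modules) (G : Y.Modules) : env p1 p2 E G (DCoh.inD P (box p1 p2 E G)) :=
  ObjectProperty.le_triangEnvelope _ _ (ObjectProperty.ofObj.mk PUnit.unit)

/-- A retract pair gives an inclusion of envelopes. -/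
theorem env_le {E E' : X.Modules} {G G' : Y.Modules} (iE : E ⟶ E') (rE : E' ⟶ E) (hE : iE ≫ rE = 𝟙 E)
    (iG : G ⟶ G') (rG : G' ⟶ G) (hG : iG ≫ rG = 𝟙 G) : env p1 p2 E G ≤ env p1 p2 E' G' := by
  rw [env, ObjectProperty.triangEnvelope_le_iff]
  rintro _ ⟨⟨⟩⟩
  refine (env p1 p2 E' G').prop_of_retract
    ⟨(singleFunctor P.Modules 0).map (tensorMap ((Scheme.Modules.pullback p1).map iE) ((Scheme.Modules.pullback p2).map iG)),
      (singleFunctor P.Modules 0).map (tensorMap ((Scheme.Modules.pullback p1).map rE) ((Scheme.Modules.pullback p2).map rG)),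
      ?_⟩ (env_self p1 p2 E' G')
  rw [← Functor.map_comp, ← tensorMap_comp, ← Functor.map_comp, ← Functor.map_comp, hE, hG,
    CategoryTheory.Functor.map_id, CategoryTheory.Functor.map_id, tensorMap_id, CategoryTheory.Functor.map_id]

variable [QuasiCompact p1] [QuasiSeparated p1] [QuasiCompact p2] [QuasiSeparated p2]
  [CompactSpace X] [QuasiSeparatedSpace X] [CompactSpace Y] [QuasiSeparatedSpace Y]
  [CompactSpace P] [QuasiSeparatedSpace P] [IsLocallyNoetherian P]

/-- Iterated box covers: a map to a high shift of a coherent module with cone in one envelope. -/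
theorem exists_trW {S : Scheme.{u}} [IsAffine S] {sX : X ⟶ S} {sY : Y ⟶ S} (sq : IsPullback p1 p2 sX sY)
    (hX : PerfAux.HasResolutionProperty X) (hY : PerfAux.HasResolutionProperty Y) :
    ∀ (n : ℕ) (M : P.Modules), Coh.IsCoh M →
      ∃ (E : X.Modules) (G : Y.Modules) (M' : P.Modules) (δ : DCoh.inD P M ⟶ (DCoh.inD P M')⟦(n + 1 : ℤ)⟧),
        FlatMod.IsFinLocFree E ∧ FlatMod.IsFinLocFree G ∧ Coh.IsCoh M' ∧ (env p1 p2 E G).trW δ := by
  have step : ∀ M : P.Modules, Coh.IsCoh M →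
      ∃ (E : X.Modules) (G : Y.Modules) (M' : P.Modules) (δ : DCoh.inD P M ⟶ (DCoh.inD P M')⟦(1 : ℤ)⟧),
        FlatMod.IsFinLocFree E ∧ FlatMod.IsFinLocFree G ∧ Coh.IsCoh M' ∧ (env p1 p2 E G).trW δ := by
    intro M hM
    obtain ⟨E, G, hE, hG, π, hπ⟩ := exists_box_epi p1 p2 sq hX hY M hM.1 hM.2
    have hb : FlatMod.IsFinLocFree (box p1 p2 E G) :=
      Groth.L29.DC.isFinLocFree_tensor (Groth.L29.LocFree.pullback _ hE) (Groth.L29.LocFree.pullback _ hG)
    have hS : (ShortComplex.mk (kernel.ι π) π (kernel.condition π)).ShortExact :=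
      { exact := ShortComplex.exact_of_f_is_kernel _ (kernelIsKernel _) }
    exact ⟨E, G, kernel π, hS.singleδ, hE, hG,
      (Groth.L16.CohKernel.isCoh_kernel_cokernel (Groth.L16.NegPow.isCoh_of_isFinLocFree hb) hM π).1,
      ObjectProperty.trW.mk _ (rot_of_distTriang _ (rot_of_distTriang _ hS.singleTriangle_distinguished))
        ((env p1 p2 E G).le_shift (1 : ℤ) _ (env_self p1 p2 E G))⟩
  intro n
  induction n with
  | zero =>
    intro M hM
    obtain ⟨E, G, M', δ, hE, hG, hM', hδ⟩ := step M hM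
    exact ⟨E, G, M', δ ≫ (eqToIso (by simp)).hom, hE, hG, hM',
      MorphismProperty.comp_mem _ _ _ hδ (ObjectProperty.trW_of_isIso _ _)⟩
  | succ n ih =>
    intro M hM
    obtain ⟨E₁, G₁, M₁, δ₁, hE₁, hG₁, hM₁, hδ₁⟩ := step M hM
    obtain ⟨E₂, G₂, M₂, δ₂, hE₂, hG₂, hM₂, hδ₂⟩ := ih M₁ hM₁
    let E' := fun k : Fin 2 => if k = 0 then E₁ else E₂
    let G' := fun k : Fin 2 => if k = 0 then G₁ else G₂
    have hE' : ∀ k, FlatMod.IsFinLocFree (E' k) := fun k => by dsimp [E']; split_ifs <;> assumption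
    have hG' : ∀ k, FlatMod.IsFinLocFree (G' k) := fun k => by dsimp [G']; split_ifs <;> assumption
    have hle : ∀ k, env p1 p2 (E' k) (G' k) ≤ env p1 p2 (∐ E') (∐ G') := fun k =>
      env_le p1 p2 (Sigma.ι E' k) (Sigma.desc fun l => if h : l = k then eqToHom (by rw [h]) else 0)
        (by rw [Sigma.ι_desc, dif_pos rfl, eqToHom_refl])
        (Sigma.ι G' k) (Sigma.desc fun l => if h : l = k then eqToHom (by rw [h]) else 0)
        (by rw [Sigma.ι_desc, dif_pos rfl, eqToHom_refl])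
    refine ⟨∐ E', ∐ G', M₂, δ₁ ≫ δ₂⟦(1 : ℤ)⟧' ≫ (shiftFunctorAdd' _ (n + 1 : ℤ) 1 ((n + 1 : ℕ) + 1 : ℤ)
      (by push_cast; ring)).inv.app _, Groth.L29.DC.isFinLocFree_coprod_fin 2 _ hE',
      Groth.L29.DC.isFinLocFree_coprod_fin 2 _ hG', hM₂, ?_⟩
    refine MorphismProperty.comp_mem _ _ _ (ObjectProperty.trW_monotone (hle 0) _ hδ₁) ?_
    exact MorphismProperty.comp_mem _ _ _
      (ObjectProperty.trW.shift (ObjectProperty.trW_monotone (hle 1) _ hδ₂) 1)
      (ObjectProperty.trW_of_isIso _ _)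

/-- A perfect coherent module on a product lies in the envelope of one box product. -/
theorem exists_env {S : Scheme.{u}} [IsAffine S] {sX : X ⟶ S} {sY : Y ⟶ S} (sq : IsPullback p1 p2 sX sY)
    (hX : PerfAux.HasResolutionProperty X) (hY : PerfAux.HasResolutionProperty Y)
    (M : P.Modules) (hM : Coh.IsCoh M) (hP : DCoh.IsPerfect (DCoh.inD P M)) :
    ∃ (E : X.Modules) (G : Y.Modules), FlatMod.IsFinLocFree E ∧ FlatMod.IsFinLocFree G ∧
      env p1 p2 E G (DCoh.inD P M) := by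
  obtain ⟨a, -, ha, -, -⟩ := Groth.L29.DC.Cpt.exists_range hP
  obtain ⟨E, G, M', δ, hE, hG, hM', T₃, g, h, hT, hT₃⟩ := exists_trW p1 p2 sq hX hY (-a).toNat M hM
  refine ⟨E, G, hE, hG, ?_⟩
  haveI := hM'.1
  have hle : ((DCoh.inD P M')⟦(((-a).toNat : ℤ) + 1)⟧).IsLE a :=
    let t := DerivedCategory.TStructure.t (C := P.Modules)
    haveI : t.IsLE (DCoh.inD P M') 0 := inferInstanceAs (IsLE ((singleFunctor P.Modules 0).obj M') 0)
    haveI := t.isLE_shift (DCoh.inD P M') 0 (((-a).toNat : ℤ) + 1) (-(((-a).toNat : ℤ) + 1)) (by omega)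
    t.isLE_of_le _ (-(((-a).toNat : ℤ) + 1)) a (by omega)
  have h0 : δ = 0 := ha _ (Groth.L29.DC.Gen.isQCohD_shift
    (Groth.L10.RelPC.PushCoh.isQCohD_inD M' hM'.1) _) hle δ
  obtain ⟨s, hs⟩ := Triangle.coyoneda_exact₁ _ hT (𝟙 ((DCoh.inD P M)⟦(1 : ℤ)⟧))
    (by simp [h0])
  have h1 : env p1 p2 E G ((DCoh.inD P M)⟦(1 : ℤ)⟧) :=
    (env p1 p2 E G).prop_of_retract ⟨s, h, hs.symm⟩ hT₃
  exact (env p1 p2 E G).prop_of_iso ((shiftEquiv (DCoh.D P) (1 : ℤ)).unitIso.app _).symm
    ((env p1 p2 E G).le_shift (-1 : ℤ) _ h1)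

end Groth.L07.BoxSurj
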