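import Mathlib.CategoryTheory.Abelian.Projective.Resolution

/-! Left resolutions by objects of a class. -/

set_option autoImplicit false
set_option backward.defeqAttrib.useBackward true
set_option backward.isDefEq.respectTransparency false
set_option backward.isDefEq.respectTransparency.types false

universe v u

open CategoryTheory CategoryTheory.Limits

noncomputable section

namespace Groth.L07.BoxSurj

variable {C : Type u} [Category.{v} C] [Abelian C]

/-- A class `S` all whose members are quotients of `P`-objects with kernels in `S` has `P`-resolutions. -/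
theorem exists_res (P S : C → Prop) (h : ∀ M, S M → ∃ (Q : C) (p : Q ⟶ M), P Q ∧ Epi p ∧ S (kernel p))
    (Z : C) (hZ : S Z) :
    ∃ (K : ChainComplex C ℕ) (π : K ⟶ (ChainComplex.single₀ C).obj Z), QuasiIso π ∧ ∀ n, P (K.X n) := by
  choose Q p hP hp hS using h
  let M : ℕ → {M : C // S M} := fun n => Nat.rec ⟨Z, hZ⟩ (fun _ m => ⟨kernel (p m.1 m.2), hS m.1 m.2⟩) n
  let X : ℕ → C := fun n => Q (M n).1 (M n).2
  let q : ∀ n, X n ⟶ (M n).1 := fun n => p (M n).1 (M n).2
  haveI hq : ∀ n, Epi (q n) := fun n => hp _ _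
  let ι : ∀ n, (M (n + 1)).1 ⟶ X n := fun n => kernel.ι (q n)
  have hι : ∀ n, ι n ≫ q n = 0 := fun n => kernel.condition _
  haveI : ∀ n, Mono (ι n) := fun n => inferInstanceAs (Mono (kernel.ι _))
  let d : ∀ n, X (n + 1) ⟶ X n := fun n => q (n + 1) ≫ ι n
  have hd : ∀ n, d (n + 1) ≫ d n = 0 := fun n => by
    show (q (n + 1 + 1) ≫ ι (n + 1)) ≫ q (n + 1) ≫ ι n = 0
    rw [Category.assoc, reassoc_of% (hι (n + 1)), zero_comp, comp_zero]
  have hex : ∀ n, (ShortComplex.mk (d n) (q n) (by simp [d, hι])).Exact := fun n => by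
    let T := ShortComplex.mk (ι n) (q n) (hι n)
    have hT : T.Exact := ShortComplex.exact_of_f_is_kernel _ (kernelIsKernel _)
    let φ : ShortComplex.mk (d n) (q n) (by simp [d, hι]) ⟶ T :=
      { τ₁ := q (n + 1), τ₂ := 𝟙 _, τ₃ := 𝟙 _ }
    exact (ShortComplex.exact_iff_of_epi_of_isIso_of_mono φ).2 hT
  let K := ChainComplex.of X d hd
  have hKd : ∀ n, K.d (n + 1) n = d n := fun n => by simp only [K, ChainComplex.of, ChainComplex.of_d]
  refine ⟨K, (ChainComplex.toSingle₀Equiv K Z).symm ⟨q 0, ?_⟩, ⟨fun n => ?_⟩, fun n => hP _ _⟩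
  · show K.d 1 0 ≫ q 0 = 0
    rw [show K.d 1 0 = d 0 from hKd 0]
    simp [d, hι]
  rcases n with _ | n
  · rw [ChainComplex.quasiIsoAt₀_iff, ShortComplex.quasiIso_iff_of_zeros']
    · dsimp
      refine (ShortComplex.exact_and_epi_g_iff_of_iso ?_).2 ⟨hex 0, hq 0⟩
      exact ShortComplex.isoMk (Iso.refl _) (Iso.refl _) (Iso.refl _) (by simpa using (hKd 0).symm) (by simp)
    all_goals rfl
  · rw [quasiIsoAt_iff_exactAt']
    · rw [HomologicalComplex.exactAt_iff' _ (n + 1 + 1) (n + 1) n (by simp) (by simp)]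
      let φ : ShortComplex.mk (d (n + 1)) (q (n + 1)) (by simp [d, hι]) ⟶
          ShortComplex.mk (d (n + 1)) (d n) (hd n) := { τ₁ := 𝟙 _, τ₂ := 𝟙 _, τ₃ := ι n }
      have h2 := (ShortComplex.exact_iff_of_epi_of_isIso_of_mono φ).1 (hex (n + 1))
      exact ShortComplex.exact_of_iso (S₁ := ShortComplex.mk (d (n + 1)) (d n) (hd n))
        (ShortComplex.isoMk (Iso.refl _) (Iso.refl _) (Iso.refl _)
          (by simpa using (hKd (n + 1))) (by simpa using (hKd n))) h2
    · apply ChainComplex.exactAt_succ_single_obj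

end Groth.L07.BoxSurj
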